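import Cfsg.Agent.H72.Rg2.K4
import Cfsg.Agent.H813.Rg.ECl

/-!
# S3691, `E₆(q)`, `²E₆(q)`, `q ≥ 3`: the facts `k4` (helper72)

* `facts_te6_k4`, `facts_e6_k4` : the fields `k4` of `FactsTE6`, `FactsE6` (H851/Rg/ESix).
-/

set_option autoImplicit false

namespace Cfsg.Agent.H72.Rg2

open Cfsg Cfsg.Lie Cfsg.Agent.OrdDiv Cfsg.Agent.H436 Cfsg.Agent.H902 Cfsg.Agent.H290.ElReg Cfsg.Agent.H290.ElTab
  Cfsg.Agent.H56.Exc Cfsg.Agent.H563.KG Cfsg.Agent.H73.Rg Cfsg.Agent.H813.Rg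

/-- a large primitive prime does not divide `2 d f`, `d ∣ 3` -/
theorem not_dvd_big {q e f r g : ℕ} (hq : 2 ≤ q) (he : 7 ≤ e) (hf : 1 ≤ f) (hr : Prim q e r) (hfr : f < r) (hg : g ∣ 3) :
    ¬ r ∣ 2 * g * f := by
  intro h
  have h1 := Cfsg.Agent.H563.KG.lt_of_prim hq (by omega) hr
  rcases hr.prime.dvd_mul.1 h with h2 | h2
  · have h3 : r ∣ 2 * 3 := h2.trans (Nat.mul_dvd_mul_left 2 hg)
    have := Nat.le_of_dvd (by norm_num) h3
    omega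
  · have := Nat.le_of_dvd (by omega) h2
    omega

/-- **`²E₆(q)`, the field `k4` of `FactsTE6`** -/
theorem facts_te6_k4 (tb : OrderTable.{0}) (hcyc : CycFixSolv.{0}) (hcf : CF) :
    ∀ (F : Type) [Field F] [Fintype F] (p f : ℕ), p.Prime → 1 ≤ f → Fintype.card F = (p ^ f) ^ 2 → 3 ≤ p ^ f →
    ∀ B : Subgroup ↥(twistedE6 F (p ^ f)),
      (∀ r, Prim (p ^ f) 18 r → ¬ r ∣ Nat.card (Cfsg.Out ↥(twistedE6 F (p ^ f))) → ¬ r ∣ B.index) →
      (∃ s, Prim p (f * 10) s ∧ s ∣ Nat.card B) → B = ⊤ := by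
  intro F _ _ p f hp hf hF h3 B hB hex
  have hcp : CharP F p := charP_of hp (k := f * 2) (by rw [hF, ← pow_mul])
  have := Fact.mk hp
  have hF' : Fintype.card F = p ^ (2 * f) := by rw [hF, ← pow_mul, mul_comm]
  refine te6_k4 tb hcyc hcf hp hf hF h3 (cl_TE6 hp hf hF (c := 18) (Or.inr (Or.inr rfl))).dvd B
    (fun r hr hfr => hB r hr ?_) hex
  rw [Cfsg.Agent.S2130.result p f hF' hf]
  exact not_dvd_big (by omega) (by norm_num) hf hr hfr (Nat.gcd_dvd_left _ _)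

/-- **`E₆(q)`, the field `k4` of `FactsE6`** -/
theorem facts_e6_k4 (tb : OrderTable.{0}) (hcyc : CycFixSolv.{0}) (hcf : CF) :
    ∀ (F : Type) [Field F] [Fintype F] (p f : ℕ), p.Prime → 1 ≤ f → Fintype.card F = p ^ f → 3 ≤ p ^ f →
    ∀ B : Subgroup ↥(chevE6.group F),
      (∀ r, Prim (p ^ f) 9 r → ¬ r ∣ Nat.card (Cfsg.Out ↥(chevE6.group F)) → ¬ r ∣ B.index) →
      (∃ s, Prim p (f * 5) s ∧ s ∣ Nat.card B) → B = ⊤ := by
  intro F _ _ p f hp hf hF h3 B hB hex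
  have := Fact.mk hp
  refine e6_k4 tb hcyc hcf hp hf hF h3 (cl_E6 hp hf hF (c := 9) (Or.inr (Or.inl rfl))).dvd B
    (fun r hr hfr => hB r hr ?_) hex
  rw [H70.OutE.card_out_E6 hF]
  exact not_dvd_big (by omega) (by norm_num) hf hr hfr (Nat.gcd_dvd_left _ _)

end Cfsg.Agent.H72.Rg2
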