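import Cfsg.Agent.H72.Rg2.Tab4
import Cfsg.Agent.H73.Rg.HAlt

/-!
# S3691, `E₆(q)`, `²E₆(q)`: one full class and one prime of another class, the simple normal subgroup (helper72)

* `FU_prim`, `FU_gt` : the primes of the class part; it is larger than 78;
* `core4` : the simple normal subgroup is of Lie type in the characteristic.
-/

set_option autoImplicit false
set_option exponentiation.threshold 7000

namespace Cfsg.Agent.H72.Rg2

open Cfsg Cfsg.Agent.OrdDiv Cfsg.Agent.H436 Cfsg.Agent.H902 Cfsg.Agent.H902.Names Cfsg.Agent.H915.GN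
  Cfsg.Agent.H290.ElReg Cfsg.Agent.H290.ElTab Cfsg.Agent.H290.ElCross Cfsg.Agent.H264.FKS Cfsg.Agent.H56.Exc
  Cfsg.Agent.H325.Loc Cfsg.Agent.H563.KG Cfsg.Agent.H73.Rg

theorem cl9 : Cls 9 := by unfold Cls; omega

theorem FU_prim {e p f r : ℕ} (hp : 2 ≤ p) (he : 7 ≤ e) (hf : 1 ≤ f) (hr : r.Prime) (h : r ∣ FU e p f) :
    Prim (p ^ f) e r := by
  unfold FU at h
  split at h
  · rename_i h1
    obtain ⟨rfl, rfl, rfl⟩ := h1
    refine prim_of_dvd cl9 (by norm_num) hr ?_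
    have h2 : ncl 9 (2 ^ 2) = 1387 := by decide +kernel
    rw [h2]
    exact h
  · have hfe : 1 * e ≤ f * e := Nat.mul_le_mul_right _ hf
    exact prim_q hf (prim_of_dvd_PP hp (by omega) hr h)

theorem FU_lt {e p f r : ℕ} (hp : 2 ≤ p) (he : 7 ≤ e) (hf : 1 ≤ f) (hr : r.Prime) (h : r ∣ FU e p f) : f * e < r := by
  have h1 := Nat.le_of_dvd (by have := hr.two_le; omega) (FU_prime hp he hf hr h)
  have := hr.two_le
  omega

/-- the test for the size of the class part -/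
def gchk4 (c P t : ℕ) : Bool := (List.range (78 / c)).all fun f' =>
  okk ((f' + 1) * c) && (Nat.blt (78 * (c * (f' + 1))) (P ^ t) && ((smp P).all fun p =>
    Nat.blt (p ^ (f' + 1)) 3 || Nat.blt 78 (fu c p (f' + 1))))

theorem gchk4_9 : gchk4 9 23 6 = true := by decide +kernel
theorem gchk4_18 : gchk4 18 23 6 = true := by decide +kernel

theorem FU_gt_of {e p f P t : ℕ} (hp : p.Prime) (he : 7 ≤ e) (hf : 1 ≤ f) (hq : 3 ≤ p ^ f) (ht : t ≤ e.totient) (hP : 2 ≤ P)
    (hP' : P ≤ 311) (hk : gchk4 e P t = true) : 78 < FU e p f := by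
  by_contra hlt
  push Not at hlt
  have hp2 := hp.two_le
  have hfe : 1 * e ≤ f * e := Nat.mul_le_mul_right _ hf
  have hg1 := one_lt_FU (e := e) hp2 he hf
  obtain ⟨r, hr, hrd⟩ := Nat.exists_prime_and_dvd hg1.ne'
  have h4 := FU_lt hp2 he hf hr hrd
  have h5 := Nat.le_of_dvd (by omega) hrd
  have hfm : f - 1 ∈ List.range (78 / e) := by
    have h7 : f ≤ 78 / e := by
      rw [Nat.le_div_iff_mul_le (by omega)]
      omega
    exact List.mem_range.2 (by omega)
  have d1 := List.all_eq_true.1 hk _ hfm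
  rw [show f - 1 + 1 = f by omega] at d1
  simp only [Bool.and_eq_true, Nat.blt_eq] at d1
  obtain ⟨ho, hb, hs⟩ := d1
  have ho1 : nl (fl (f * e)) = f * e := by simpa [okk] using ho
  have hpP : p ≤ P := by
    by_contra hcon
    push Not at hcon
    have h6 := PP_lower (p := p) (f := f) (e := e) hp2 (by omega) hf hcon
    have h7 : P ^ t ≤ P ^ e.totient := Nat.pow_le_pow_right (by omega) ht
    have h9 : FU e p f = PP p (f * e) := by
      unfold FU
      rw [if_neg]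
      rintro ⟨-, rfl, -⟩
      omega
    rw [h9, mul_comm f e] at hlt
    have h8 : PP p (e * f) * (e * f) ≤ 78 * (e * f) := Nat.mul_le_mul_right _ hlt
    omega
  have hpm : p ∈ smp P := List.mem_filter.2 ⟨mem_sps hp (hpP.trans hP'), by simpa using hpP⟩
  have d4 := List.all_eq_true.1 hs p hpm
  have e2 : Nat.blt (p ^ f) 3 = false := by
    rw [Bool.eq_false_iff, Ne, Nat.blt_eq]; omega
  simp only [e2, Bool.false_or, Nat.blt_eq] at d4
  rw [← FU_eq ho1 hp2] at d4
  omega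

theorem FU_gt {e p f : ℕ} (he : e = 9 ∨ e = 18) (hp : p.Prime) (hf : 1 ≤ f) (hq : 3 ≤ p ^ f) : 78 < FU e p f := by
  rcases he with rfl | rfl
  · exact FU_gt_of hp (by norm_num) hf hq (by decide +kernel) (by norm_num) (by norm_num) gchk4_9
  · exact FU_gt_of hp (by norm_num) hf hq (by decide +kernel) (by norm_num) (by norm_num) gchk4_18

/-- the family of the primes of the class `e` dividing `N` -/
def Fm4 (q e M N : ℕ) (r m e' : ℕ) : Prop := Prim q e r ∧ r ∣ N ∧ m = M ∧ e' = 9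

variable {n : ℕ} {D : D4} {p f M : ℕ}

/-- **alternating groups** -/
theorem no_alt4 {S : Type} [Group S] [Finite S] {m e : ℕ} (hp : p.Prime) (he : e = 9 ∨ e = 18) (hf : 1 ≤ f)
    (hq : 3 ≤ p ^ f) (hm : 2 ≤ m) (Φ : S ≃* alternatingGroup (Fin m))
    (hB : ∀ r, Prim (p ^ f) e r → r ∣ Nat.card S → Big S r M 9) (hfull : FU e p f ∣ Nat.card S) : False := by
  have hp2 := hp.two_le
  have he7 : 7 ≤ e := by omega
  have hfe : 1 * e ≤ f * e := Nat.mul_le_mul_right _ hf
  have h78 := FU_gt he hp hf hq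
  have key : ∀ s, s.Prime → s ∣ FU e p f → s = 19 ∧ s ≤ m ∧ m ≤ s + 3 := by
    intro s hs hsd
    have h1 := FU_prim hp2 he7 hf hs hsd
    have hsS := hsd.trans hfull
    have h2 := FU_prime hp2 he7 hf hs hsd
    have h3 := FU_lt hp2 he7 hf hs hsd
    have hb := hB s h1 hsS
    have h4 : s - 1 ∣ 2 * 9 := Cfsg.Agent.H427.Rg.alt_aut hb Φ (by omega) hsS
    have h5 := Nat.le_of_dvd (by norm_num) h4
    have h6 : s = 19 := by
      have h7 : s ≤ 19 := by omega
      have h8 : 10 ≤ s := by omega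
      have h9 : s ≠ 10 := by
        rintro rfl
        exact absurd hs (by norm_num)
      clear hsd h1 hsS h2 h3 hb h5
      obtain ⟨k, hk⟩ := h4
      interval_cases s <;> omega
    refine ⟨h6, Cfsg.Agent.H290.ElRich.le_of_dvd_alt hs hm Φ hsS,
      Cfsg.Agent.H290.ElRich.alt_le hs (by omega) Φ hsS fun x hx => ?_⟩
    have := hb.cyc x hx
    let _ := IsCyclic.commGroup (α := ↥(Subgroup.centralizer ({x} : Set S)))
    infer_instance
  have hpow := Nat.eq_prime_pow_of_unique_prime_dvd (n := FU e p f) (p := 19) (by omega)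
    fun {s} hs hsd => (key s hs hsd).1
  generalize (FU e p f).primeFactorsList.length = k at hpow
  obtain ⟨r, hr, hrd⟩ := Nat.exists_prime_and_dvd (show FU e p f ≠ 1 by omega)
  obtain ⟨rfl, h1, h2⟩ := key r hr hrd
  have hk1 : k ≤ 1 := by
    by_contra hk1
    have h3 : 19 ^ 2 ∣ FU e p f := by rw [hpow]; exact pow_dvd_pow _ (by omega)
    have : Nontrivial (Fin m) := Fin.nontrivial_iff_two_le.2 hm
    have h4 : 2 * Nat.card S = m.factorial := by
      rw [Nat.card_congr Φ.toEquiv, Nat.card_eq_fintype_card, two_mul_card_alternatingGroup, Fintype.card_perm,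
        Fintype.card_fin]
    refine sq_not_dvd_factorial hr (m := m) (by omega) ?_
    rw [← h4]
    exact (h3.trans hfull).mul_left _
  have hle : FU e p f ≤ 19 := by
    rw [hpow]
    calc 19 ^ k ≤ 19 ^ 1 := Nat.pow_le_pow_right (by omega) hk1
      _ = 19 := pow_one 19
  omega

/-- **The name.** -/
theorem name4 (tb : OrderTable.{0}) (hDe : D.e = 9 ∨ D.e = 18) (hD : D.Ok) (hR : chkR4 n D = true) (hS : chkS4 D = true)
    (hn : n ≤ 248) (hp : p.Prime) (hf : 1 ≤ f) (hq : 3 ≤ p ^ f) {F : Type} [Field F] [CharP F p] {S : Type} [Group S]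
    [Finite S] [IsSimpleGroup S] (hna : ¬ IsMulCommutative S) (hK : IsKnownSimple' S) (hrep : Fth n F S)
    (hd : Nat.card S ∣ OL D.Y (p ^ f)) (hfull : FU D.e p f ∣ Nat.card S)
    (hex : ∃ s, Prim p (f * D.ex) s ∧ s ∣ Nat.card S)
    (hB : ∀ r, Prim (p ^ f) D.e r → r ∣ Nat.card S → Big S r M 9) : ∃ g, IsNamed g S ∧ HasChar p g := by
  have hna' : ¬ ∀ a b : S, a * b = b * a := fun h => hna ⟨⟨h⟩⟩
  obtain ⟨g, hgS⟩ := exists_named tb hK hna'
  have hF : Fac4 D (Nat.card S) p f := ⟨hp, hf, hq, hfull, hex⟩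
  rcases Cfsg.Agent.H192.Singer.cases_name hgS.cond with ⟨m, rfl⟩ | hsp | ⟨l, hl, hch⟩
  · exfalso
    obtain ⟨Φ⟩ : Nonempty (S ≃* alternatingGroup (Fin m)) := hgS.real
    have hm : 5 ≤ m := hgS.cond
    exact no_alt4 hp hDe hf hq (by omega) Φ hB hfull
  · exfalso
    have h1 := Cfsg.Agent.H192.Singer.spor_mem hsp
    have h2 : Nat.card S = ordN g := hgS.ord
    exact no_spor4 hD hS h1 (by rw [← h2]; exact hF) (by rw [← h2]; exact hd)
  · by_cases hpl : p = l
    · subst hpl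
      exact ⟨g, hgS, hch⟩
    · exfalso
      obtain ⟨X, f₁, h1, h2, -⟩ := exists_lie hl hgS hch
      have hlF : (l : F) ≠ 0 := by
        intro h
        exact hpl ((Nat.prime_dvd_prime_iff_eq hp hl).1 ((CharP.cast_eq_zero_iff F p l).1 h))
      have h3 := lb_le hna' hn hrep h1 hgS.real h2 hlF
      exact no_cross4 hn hD hR h2 h3 hpl hF hd

/-- **One full class and one prime of another class.** -/
theorem core4 (tb : OrderTable.{0}) (hcyc : CycFixSolv.{0})
    (hcfsg : ∀ (S : Type) [Group S] [Finite S] [IsSimpleGroup S], IsKnownSimple' S)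
    (hDe : D.e = 9 ∨ D.e = 18) (hD : D.Ok) (hR : chkR4 n D = true) (hS : chkS4 D = true) (hn : n ≤ 78)
    (hxe : ¬ D.ex ∣ D.e) (hx5 : 5 ≤ D.ex)
    (hp : p.Prime) (hf : 1 ≤ f) (hq : 3 ≤ p ^ f) {F : Type} [Field F] [CharP F p]
    {T : Type} [Group T] [Finite T] (hrep : Fth n F T) (hdT : Nat.card T ∣ OL D.Y (p ^ f))
    (hbig : ∀ r, Prim (p ^ f) D.e r → Big T r M 9) (hM : M ∣ (p ^ f) ^ D.e - 1)
    (hord : Ord T (p ^ f) D.e (ncl D.e (p ^ f)))
    (hpiso : ∀ r, Prim (p ^ f) D.e r → PIso p r T) (hT : FU D.e p f ∣ Nat.card T)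
    {B : Subgroup T} (hB : ∀ r, Prim (p ^ f) D.e r → f < r → ¬ r ∣ B.index)
    (hex : ∃ s, Prim p (f * D.ex) s ∧ s ∣ Nat.card B) :
    ∃ (S : Subgroup B) (_ : S.Normal) (_ : IsSimpleGroup S), FU D.e p f ∣ Nat.card S ∧
      (∃ s, Prim p (f * D.ex) s ∧ s ∣ Nat.card S) ∧
      (∀ r, Prim (p ^ f) D.e r → r ∣ Nat.card B → r ∣ Nat.card S) ∧ ∃ g, IsNamed g S ∧ HasChar p g := by
  have := Fact.mk hp
  have hp2 := hp.two_le
  have he7 : 7 ≤ D.e := by omega
  have hfe : 1 * D.e ≤ f * D.e := Nat.mul_le_mul_right _ hf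
  have hff : f * 1 ≤ f * D.e := Nat.mul_le_mul_left _ (by omega)
  have hq1 : 1 ≤ p ^ f := by omega
  have hcls : Cls D.e := by unfold Cls; omega
  have h78 := FU_gt hDe hp hf hq
  -- the class part divides the order of `B`
  have hFB : FU D.e p f ∣ Nat.card B := by
    rw [← B.index_mul_card] at hT
    refine Nat.Coprime.dvd_of_dvd_mul_left ?_ hT
    by_contra hcon
    obtain ⟨r, hr, h3, h4⟩ := Nat.Prime.not_coprime_iff_dvd.1 hcon
    have h5 := FU_lt hp2 he7 hf hr h3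
    exact hB r (FU_prim hp2 he7 hf hr h3) (by omega) h4
  obtain ⟨r₀, hr₀, hrd⟩ := Nat.exists_prime_and_dvd (one_lt_FU (e := D.e) hp2 he7 hf).ne'
  have hp₀ := FU_prim hp2 he7 hf hr₀ hrd
  have hr₀B := hrd.trans hFB
  obtain ⟨s, hs, hsB⟩ := hex
  -- `s` does not divide `9 M`
  have hsM : ¬ s ∣ 9 * M := by
    intro h
    have hs' := prim_q hf hs
    rcases hs.prime.dvd_mul.1 h with h1 | h1
    · have h2 : s ∣ 3 := hs.prime.dvd_of_dvd_pow (show s ∣ 3 ^ 2 from h1)
      have h3 := Nat.le_of_dvd (by norm_num) h2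
      have h4 := lt_of_prim (by omega) (by omega) hs'
      omega
    · exact hxe ((hs'.dvd_iff D.e).1 (h1.trans hM))
  let Fa := Fm4 (p ^ f) D.e M (Nat.card B)
  have hrf : RFam ↥B Fa := by
    refine ⟨?_, ?_, ?_⟩
    · rintro r m e ⟨h, -, rfl, rfl⟩
      exact (hbig r h).subgroup B
    · rintro r m e ⟨-, h, -, -⟩
      exact h
    · rintro r m e ⟨-, -, rfl, rfl⟩ h
      exact hsM (hsB.trans h)
  obtain ⟨τ, hτ⟩ := hrep.sub B.subtype B.subtype_injective
  have hordB : Ord ↥B (p ^ f) D.e (ncl D.e (p ^ f)) := by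
    intro r hr x hx
    have h1 := hord r hr (x : T) (by rw [Subgroup.orderOf_coe]; exact hx)
    have h2 : (Subgroup.centralizer ({x} : Set ↥B)).map B.subtype ≤ Subgroup.centralizer ({(x : T)}) := by
      rintro _ ⟨y, hy, rfl⟩
      rw [Subgroup.mem_centralizer_singleton_iff]
      exact congrArg Subtype.val (Subgroup.mem_centralizer_singleton_iff.1 hy)
    have h3 : Nat.card ↥((Subgroup.centralizer ({x} : Set ↥B)).map B.subtype) =
        Nat.card ↥(Subgroup.centralizer ({x} : Set ↥B)) :=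
      Nat.card_congr ((Subgroup.centralizer ({x} : Set ↥B)).equivMapOfInjective _ B.subtype_injective).symm.toEquiv
    exact (h3 ▸ Subgroup.card_dvd_of_le h2).trans h1
  have hgood : ∀ t : ℕ, t.Prime → t ≠ p → ¬ Pr Fa t → t ∣ Nat.card B → Good B n t := by
    intro t ht htp htn htB
    have htc : ¬ Prim (p ^ f) D.e t := fun h => htn ⟨M, 9, h, htB, rfl, rfl⟩
    have htN := not_dvd_of_not_prim hcls hq1 ht htc
    refine ⟨FU D.e p f, hFB, ?_, Or.inl (by omega)⟩
    intro x hx hxm a ha hcx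
    have h1 := hordB _ (FU_prim hp2 he7 hf hx hxm) x rfl
    have h2 : a ∈ Subgroup.centralizer ({x} : Set ↥B) := Subgroup.mem_centralizer_singleton_iff.2 hcx.symm
    have h3 : orderOf a ∣ ncl D.e (p ^ f) := by
      have h4 : orderOf (⟨a, h2⟩ : ↥(Subgroup.centralizer ({x} : Set ↥B))) = orderOf a := by
        rw [← Subgroup.orderOf_coe]
      rw [← h4]
      exact (orderOf_dvd_natCard _).trans h1
    have h4 : orderOf a ∣ t := orderOf_dvd_of_pow_eq_one ha
    rcases (Nat.dvd_prime ht).1 h4 with h5 | h5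
    · rwa [orderOf_eq_one_iff] at h5
    · rw [h5] at h3
      exact absurd h3 htN
  have hred : Red ↥B (Pr Fa) := by
    refine red_of hcyc hτ (fun A hA hAp => pcore_of_piso ((hpiso r₀ hp₀).sub B) hr₀B A hA hAp)
      ⟨M, 9, hp₀, hr₀B, rfl, rfl⟩ hr₀ hr₀B
      (fun x hx => ((hbig r₀ hp₀).subgroup B).cyc x hx) fun t ht htp htn htB => ?_
    rw [Fintype.card_fin]
    exact hgood t ht htp htn htB
  obtain ⟨S, hSn, hSs, hSna, hS'⟩ :=
    hrf.exists_full hcyc hred (r₁ := r₀) (m₁ := M) (e₁ := 9) ⟨hp₀, hr₀B, rfl, rfl⟩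
  have hall : ∀ r, Prim (p ^ f) D.e r → r ∣ Nat.card B →
      Big S r M 9 ∧ r ∣ Nat.card S ∧ ¬ r ∣ S.index ∧ S.index ∣ 9 * M :=
    fun r h hrB => hS' r M 9 ⟨h, hrB, rfl, rfl⟩
  have hSs' : IsSimpleGroup S := hSs
  have hFS : FU D.e p f ∣ Nat.card S := by
    have h1 := hFB
    rw [← S.index_mul_card] at h1
    refine Nat.Coprime.dvd_of_dvd_mul_left ?_ h1
    by_contra hcon
    obtain ⟨r, hr, h3, h4⟩ := Nat.Prime.not_coprime_iff_dvd.1 hcon
    exact (hall r (FU_prim hp2 he7 hf hr h3) (h3.trans hFB)).2.2.1 h4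
  have hsS : s ∣ Nat.card S := by
    have h1 := hsB
    rw [← S.card_mul_index] at h1
    rcases hs.prime.dvd_mul.1 h1 with h | h
    · exact h
    · exact absurd (h.trans (hall r₀ hp₀ hr₀B).2.2.2) hsM
  have hdS : Nat.card S ∣ OL D.Y (p ^ f) :=
    ((Subgroup.card_subgroup_dvd_card S).trans (Subgroup.card_subgroup_dvd_card B)).trans hdT
  refine ⟨S, hSn, hSs, hFS, ⟨s, hs, hsS⟩, fun r h hrB => (hall r h hrB).2.1, ?_⟩
  exact name4 (M := M) tb hDe hD hR hS (by omega) hp hf hq hSna (hcfsg S)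
    ((hrep.sub B.subtype B.subtype_injective).sub S.subtype S.subtype_injective) hdS hFS ⟨s, hs, hsS⟩
    fun r h hrS => (hall r h (hrS.trans (Subgroup.card_subgroup_dvd_card S))).1

end Cfsg.Agent.H72.Rg2
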