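import Cfsg.Agent.H72.Rg2.Core4
import Cfsg.Agent.H563.KG.KTE6
import Cfsg.Agent.H72.Same.One

/-!
# S3691, `E₆(q)`, `²E₆(q)`, `q ≥ 3`: the subgroups containing a full class and one prime of another class (helper72)

* `te6_k4` : class 18 and a prime of the class 10;
* `e6_k4` : class 9 and a prime of the class 5.
-/

set_option autoImplicit false

namespace Cfsg.Agent.H72.Rg2

open Cfsg Cfsg.Agent.OrdDiv Cfsg.Agent.H436 Cfsg.Agent.H902 Cfsg.Agent.H290.ElReg Cfsg.Agent.H290.ElTab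
  Cfsg.Agent.H56.Exc Cfsg.Agent.H325.Loc Cfsg.Agent.H915.GN Cfsg.Agent.H264.FKS Cfsg.Agent.H325.Same
  Cfsg.Agent.H325.IsoExc Cfsg.Agent.H563.KG Cfsg.Agent.H73.Rg Cfsg.Agent.H72.Same

theorem charP_of {F : Type} [Field F] [Fintype F] {p k : ℕ} (hp : p.Prime) (hF : Fintype.card F = p ^ k) : CharP F p := by
  obtain ⟨ℓ, hchar⟩ := CharP.exists F
  have hl : Fact ℓ.Prime := ⟨CharP.char_is_prime F ℓ⟩
  obtain ⟨m, hm, hcard⟩ := FiniteField.card F ℓ
  rw [hF] at hcard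
  have h1 : ℓ ∣ p ^ k := by rw [hcard]; exact dvd_pow_self ℓ m.ne_zero
  have h3 : ℓ = p := (Nat.prime_dvd_prime_iff_eq hm hp).1 (hm.dvd_of_dvd_pow h1)
  subst h3
  exact hchar

/-- **`²E₆(q)`, class 18 and a prime of class 10.** -/
theorem te6_k4 (tb : OrderTable.{0}) (hcyc : CycFixSolv.{0}) (hcf : CF) {F : Type} [Field F] [Fintype F] {p f : ℕ}
    (hp : p.Prime) (hf : 1 ≤ f) (hK : Fintype.card F = (p ^ f) ^ 2) (h3 : 3 ≤ p ^ f)
    (hPP : PP p (f * 18) ∣ Nat.card ↥(Lie.twistedE6 F (p ^ f)))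
    (B : Subgroup ↥(Lie.twistedE6 F (p ^ f))) (hB : ∀ r, Prim (p ^ f) 18 r → f < r → ¬ r ∣ B.index)
    (hex : ∃ s, Prim p (f * 10) s ∧ s ∣ Nat.card B) : B = ⊤ := by
  have hq : IsPrimePow (p ^ f) := hp.isPrimePow.pow (by omega)
  have hcp : CharP F p := charP_of hp (k := f * 2) (by rw [hK, ← pow_mul])
  have := Fact.mk hp
  have hfin : Finite ↥(Lie.twistedE6 F (p ^ f)) := inferInstance
  have hT := named_te6 (F := F) tb hq hK
  have hq2 : 2 ≤ p ^ f := by omega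
  have hq1 : 1 ≤ p ^ f := by omega
  have hOL : num (.te6 (p ^ f)) = OL .TE6 (p ^ f) := rfl
  have hdT : Nat.card ↥(Lie.twistedE6 F (p ^ f)) ∣ OL .TE6 (p ^ f) := by
    rw [← hOL, ← hT.eq]
    exact Dvd.intro_left _ rfl
  have hm18 : ((Ph 18 (p ^ f) : ℕ) : ℤ) = 1 - ((p ^ f : ℕ) : ℤ) ^ 3 + ((p ^ f : ℕ) : ℤ) ^ 6 := by
    rw [cast_Ph18 _ hq1]; ring
  have ho18 : Ord ↥(Lie.twistedE6 F (p ^ f)) (p ^ f) 18 (ncl 18 (p ^ f)) := by
    intro r hr x hx
    rw [← ncl18_eq hq1]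
    exact (Cfsg.Agent.H190.Exc.te6_18 hq hK hr).2 x hx
  have hFT : FU 18 p f ∣ Nat.card ↥(Lie.twistedE6 F (p ^ f)) := by
    unfold FU
    rw [if_neg (by norm_num)]
    exact hPP
  obtain ⟨S, hSn, hSs, hFS, hexS, hall, g, hg, hch⟩ := core4 (D := DT) (n := 78) tb hcyc hcf (Or.inr rfl) okT chkR4_T
    chkS4_T le_rfl (by decide) (by decide) hp hf h3 (F := F) (fth_TE6 _) hdT (M := Ph 18 (p ^ f))
    (fun r hr => big_TE6_18 hq hK hm18 hr) (Ph_dvd c18 hq1) ho18 (fun r hr => piso_twE6 hq hK (Or.inr rfl) hr) hFT hB hex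
  have hdS : Nat.card S ∣ num (.te6 (p ^ f)) := IsNamed.card_dvd hT S
  have h18 : H1 p f 18 (Nat.card S) := by
    have hp2 := hp.two_le
    obtain ⟨s, hs⟩ := exists_prim (q := p) (e := f * 18) hp2 (by omega) (by omega)
    refine ⟨s, hs, (dvd_PP hp2 (by omega) hs).trans ?_⟩
    have h1 : FU 18 p f = PP p (f * 18) := by
      unfold FU
      rw [if_neg (by norm_num)]
    rw [← h1]
    exact hFS
  obtain rfl := charp_te6_1018 hp hf hg.cond hch hg.eq hdS hexS h18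
  exact eq_top_of_name hT hg

/-- **`E_6(q)`, one prime of class 5 and the large primes of class 9 (order of `q`).** -/
theorem e6_59' {g : Grp} {c p f : ℕ} (hp : p.Prime) (hf : 1 ≤ f) (hg : Cond g) (hch : HasChar p g)
    (hc : den g * c = num g) (hdvd : c ∣ num (.e6 (p ^ f))) (hs1 : H1 p f 5 c)
    (hs2 : ∀ s, Prim (p ^ f) 9 s → f < s → s ∣ c) : g = .e6 (p ^ f) := by
  obtain ⟨f₁, hf₁, hfl, hK, hY⟩ := kd_all hp hg hch hc
  have hs2' : H1 p f 9 c := by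
    obtain ⟨s, hs⟩ := exists_prim (q := p) (e := f * 9) hp.two_le (by omega) (by omega)
    refine ⟨s, hs, hs2 s (prim_q hf hs) ?_⟩
    have h3 := Cfsg.Agent.H73.Rg.mod_of_prim' hp.two_le hs
    have h4 := Nat.le_of_dvd (by have := hs.prime.two_le; omega) h3
    omega
  obtain ⟨i, hi, hei, hfM, h2, h1, h3, hYc⟩ := compPo hp hf hf₁ hK hY (td_e6 hp hf hdvd)
    (by norm_num) (by norm_num) hs1 hs2'
  rcases elimP_e6_5_9 hg hch hi hei h2 h1 h3 hYc with ⟨rfl, q, rfl⟩ | ⟨rfl, q, rfl⟩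
  · exfalso
    obtain rfl : q = p ^ f₁ := hfl
    have h5 : f₁ * 18 = f * 9 := hfM
    have h6 : f = 2 * f₁ := by omega
    have hq₁ : 2 ≤ p ^ f₁ := hp.two_le.trans (Nat.le_self_pow (by omega) _)
    obtain ⟨s, hs0⟩ := exists_prim (q := p) (e := f₁ * 9) hp.two_le (by omega) (by omega)
    have hs := prim_q hf₁ hs0
    have hlt : f < s := by
      have h3 := Cfsg.Agent.H73.Rg.mod_of_prim' hp.two_le hs0
      have h4 := Nat.le_of_dvd (by have := hs0.prime.two_le; omega) h3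
      omega
    have hs' : Prim (p ^ f) 9 s := by
      have := Cfsg.Agent.H425.Chr.prim_quot (f := 2) (by norm_num) hs
      rw [← pow_mul, mul_comm f₁ 2, ← h6] at this
      exact this
    have h8 : s ∣ num (.te6 (p ^ f₁)) := by
      rw [← hc]
      exact (hs2 s hs' hlt).mul_left _
    exact not_dvd_te6 hs h8
  · obtain rfl : q = p ^ f₁ := hfl
    rw [same_fld (M := 12) (by norm_num) hfM]

/-- **`E₆(q)`, class 9 and a prime of class 5.** -/
theorem e6_k4 (tb : OrderTable.{0}) (hcyc : CycFixSolv.{0}) (hcf : CF) {F : Type} [Field F] [Fintype F] {p f : ℕ}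
    (hp : p.Prime) (hf : 1 ≤ f) (hq : Fintype.card F = p ^ f) (h3 : 3 ≤ p ^ f)
    (hPP : PP p (f * 9) ∣ Nat.card ↥(Lie.chevE6.group F))
    (B : Subgroup ↥(Lie.chevE6.group F)) (hB : ∀ r, Prim (p ^ f) 9 r → f < r → ¬ r ∣ B.index)
    (hex : ∃ s, Prim p (f * 5) s ∧ s ∣ Nat.card B) : B = ⊤ := by
  have hcp : CharP F p := charP_of hp hq
  have := Fact.mk hp
  have hfin : Finite ↥(Lie.chevE6.group F) := inferInstance
  have hT := named_e6 (F := F) tb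
  rw [hq] at hT
  have hq2 : 2 ≤ p ^ f := by omega
  have hq1 : 1 ≤ p ^ f := by omega
  have hOL : num (.e6 (p ^ f)) = OL .E6 (p ^ f) := rfl
  have hdT : Nat.card ↥(Lie.chevE6.group F) ∣ OL .E6 (p ^ f) := by
    rw [← hOL, ← hT.eq]
    exact Dvd.intro_left _ rfl
  have hnum : ncl 9 (p ^ f) ∣ num (.e6 (p ^ f)) := by
    have h1 : Ph 9 (p ^ f) ∣ num (.e6 (p ^ f)) := by
      show _ ∣ (p ^ f) ^ 36 * (((p ^ f) ^ 2 - 1) * ((p ^ f) ^ 5 - 1) * ((p ^ f) ^ 6 - 1) *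
        ((p ^ f) ^ 8 - 1) * ((p ^ f) ^ 9 - 1) * ((p ^ f) ^ 12 - 1))
      exact Dvd.dvd.mul_left ((Ph_dvd c9 hq1).trans ((Dvd.intro_left _ rfl).trans (Dvd.intro _ rfl))) _
    exact (ncl_dvd_Ph 9 _).trans h1
  have hnT : ncl 9 (p ^ f) ∣ Nat.card ↥(Lie.chevE6.group F) :=
    ncl_dvd_card c9 (by norm_num) hq2 (den_pos hT.cond)
      ((Nat.gcd_le_left _ (by norm_num)).trans (by norm_num)) hT.eq hnum
  have hm9 : ((Ph 9 (p ^ f) : ℕ) : ℤ) = 1 + ((p ^ f : ℕ) : ℤ) ^ 3 + ((p ^ f : ℕ) : ℤ) ^ 6 := by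
    rw [cast_Ph9]; ring
  have ho9 : Ord ↥(Lie.chevE6.group F) (p ^ f) 9 (ncl 9 (p ^ f)) := by
    intro r hr x hx
    rw [← ncl9_eq hq1]
    exact (Cfsg.Agent.H190.Exc.e6_9 hq hr).2 x hx
  have hFT : FU 9 p f ∣ Nat.card ↥(Lie.chevE6.group F) := by
    unfold FU
    split
    · rename_i h1
      obtain ⟨-, rfl, rfl⟩ := h1
      have h2 : ncl 9 (2 ^ 2) = 1387 := by decide +kernel
      rw [← h2]
      exact hnT
    · exact hPP
  obtain ⟨S, hSn, hSs, hFS, hexS, hall, g, hg, hch⟩ := core4 (D := DE) (n := 78) tb hcyc hcf (Or.inl rfl) okE chkR4_E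
    chkS4_E le_rfl (by decide) (by decide) hp hf h3 (F := F) fth_E6 hdT (M := Ph 9 (p ^ f))
    (fun r hr => big_E6_9 hq hm9 hr) (Ph_dvd c9 hq1) ho9
    (fun r hr => piso_E6 (F := F) (by rw [hq]; exact hr)) hFT hB hex
  have hdS : Nat.card S ∣ num (.e6 (p ^ f)) := IsNamed.card_dvd hT S
  obtain rfl := e6_59' hp hf hg.cond hch hg.eq hdS hexS fun s hs hfs => by
    refine hall s hs ?_
    have h1 : s ∣ Nat.card ↥(Lie.chevE6.group F) := (dvd_ncl c9 hq1 hs).trans hnT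
    rw [← B.card_mul_index] at h1
    exact (hs.prime.dvd_mul.1 h1).resolve_right (hB s hs hfs)
  exact eq_top_of_name hT hg

end Cfsg.Agent.H72.Rg2
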